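import Cfsg.Agent.Lib.Comp.Subst2
import Cfsg.Agent.Lib.Comp.Cen

/-! Transporters and centralisers of abelian subgroups along a truncated stabiliser chain. -/

set_option autoImplicit false

namespace Cfsg.Lib.SuzF

open Cfsg.Lib.Comp Subgroup

/-- `tz` computes inverse images for the letters valued by `g`. -/
def TbG (g : ℕ → Equiv.Perm ℕ) (tz : ℕ → ℕ → ℕ) : Prop := ∀ x p, tz x p = (g x)⁻¹ p

theorem wapG {g : ℕ → Equiv.Perm ℕ} {tz : ℕ → ℕ → ℕ} (h : TbG g tz) (w : List ℕ) (p : ℕ) :
    wap tz w p = (ev g w)⁻¹ p := by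
  induction w generalizing p with
  | nil => rfl
  | cons x t ih =>
    have : wap tz (x :: t) p = wap tz t (tz x p) := rfl
    rw [this, ih, h, ev_cons, mul_inv_rev, Equiv.Perm.mul_apply]

theorem witerG {g : ℕ → Equiv.Perm ℕ} {tz : ℕ → ℕ → ℕ} (h : TbG g tz) (x e p : ℕ) :
    witer tz [x] e p = (g x ^ e)⁻¹ p := by
  induction e generalizing p with
  | zero => rfl
  | succ e ih =>
    have : witer tz [x] (e + 1) p = witer tz [x] e (wap tz [x] p) := rfl
    rw [this, ih, wapG h, ev_single, pow_succ', mul_inv_rev, Equiv.Perm.mul_apply]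

/-- Letters evaluated through their defining words. -/
noncomputable def tw (tb : ℕ → ℕ → ℕ) (W : List (List ℕ)) (x : ℕ) : ℕ → ℕ := wap tb (nth [] W x)

theorem tbG_tw {nets : List Net} {tb : ℕ → ℕ → ℕ} (ht : TbA nets tb) (W : List (List ℕ)) :
    TbG (sv (gp nets) W) (tw tb W) := fun _ _ => wap_eq ht _ _

/-- Letters evaluated through explicit tables. -/
noncomputable def tt (T : List ℕ) (x p : ℕ) : ℕ :=
  cnd (Nat.ble 2048 p) p (cnd (Nat.beq (nth 0 T x) 0) p (look2 (nth 0 T x) 11 256 p))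

theorem tbG_tt {nets : List Net} {tb : ℕ → ℕ → ℕ} (hN : NetsOK 2048 nets) (ht : TbA nets tb) {W : List (List ℕ)}
    {T : List ℕ} {n : ℕ} (h1 : T.length ≤ n) (h2 : W.length ≤ n)
    (h : ∀ x < n, allR 0 256 8 (fun p => Nat.beq (tt T x p) (wap tb (nth [] W x) p)) = true) :
    TbG (sv (gp nets) W) (tt T) := by
  intro x p
  by_cases hp : 2048 ≤ p
  · unfold tt
    rw [ble_tt.2 hp, cnd_true]
    exact ((fx_ev hN.fx _).inv p hp).symm
  · by_cases hx : x < n
    · have := allR_sound (h x hx) (Nat.zero_le p) (by omega)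
      rw [beq_tt, wap_eq ht] at this
      exact this
    · unfold tt sv
      have e1 : nth 0 T x = 0 := by rw [nth_eq]; exact List.getD_eq_default _ _ (by omega)
      have e2 : nth [] W x = [] := by rw [nth_eq]; exact List.getD_eq_default _ _ (by omega)
      rw [e1, e2]
      cases Nat.ble 2048 p <;> rfl

/-- Sifting through an initial part of a chain; the remaining group fixes the test points. -/
noncomputable def sift2 (tb : ℕ → ℕ → ℕ) (im pt : ℕ → ℕ) (T : List ℕ) (C : List Lev) :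
    List (ℕ → ℕ) → List ℕ → List ℕ → List ℕ → Bool :=
  List.rec (motive := fun _ => List (ℕ → ℕ) → List ℕ → List ℕ → List ℕ → Bool)
    (fun _ L _ ws => cnd (allL T fun e => allL L fun x => Nat.beq (tb x (pt e)) (pt e))
      (cnd (allL T fun e => Nat.beq (wapR tb ws (im e)) (pt e)) false true) false)
    (fun v _ ih P L es ws => force (wapR tb ws (im (List.headD es 0))) fun p =>
      cnd (Nat.ble v.2.2.2.1 p) (cnd (Nat.ble (Nat.add v.2.2.2.1 v.2.2.2.2) p) true
        (walk tb (List.headD P fun _ => 0) (msk L) v.2.2.1 (ih (List.tail P) v.1 (List.tail es)) 1000 p ws)) true) C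

theorem sift2_sound {N : ℕ} {nets : List Net} (hN : NetsOK N nets) {tb : ℕ → ℕ → ℕ} (ht : TbA nets tb)
    {im pt : ℕ → ℕ} {T : List ℕ} {C C2 : List Lev} {P : List (ℕ → ℕ)} {L es ws : List ℕ}
    (hC : Exact nets (C ++ C2) L) (h : sift2 tb im pt T C P L es ws = true) {c : Equiv.Perm ℕ}
    (hc : (ev (gp nets) ws.reverse)⁻¹ * c ∈ cl (gp nets) L) (hb : (bases C).map c = es.map im)
    (hT : ∀ e ∈ T, c (pt e) = im e) : False := by
  induction C generalizing P L es ws with
  | nil =>
    have e : sift2 tb im pt T [] P L es ws = cnd (allL T fun e => allL L fun x => Nat.beq (tb x (pt e)) (pt e))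
      (cnd (allL T fun e => Nat.beq (wapR tb ws (im e)) (pt e)) false true) false := rfl
    rw [e, cnd_tt, cnd_ff] at h
    have : allL T (fun e => Nat.beq (wapR tb ws (im e)) (pt e)) = true := allL_iff.2 fun r hr => by
      have h1 : cl (gp nets) L ≤ stab (MonoidHom.id _) (pt r) := cl_le.2 fun x hx => by
        have := beq_tt.1 (allL_iff.1 (allL_iff.1 h.1 r hr) x hx)
        rw [ht, Equiv.Perm.inv_eq_iff_eq] at this
        exact this.symm
      rw [beq_tt, wapR_eq ht, ← hT r hr, ← Equiv.Perm.mul_apply]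
      exact h1 hc
    rw [h.2.1] at this; exact Bool.noConfusion this
  | cons v t ih =>
    obtain ⟨L', ops, b, a, n⟩ := v
    obtain ⟨h1, -, h2, h3, -⟩ := Exact.cons hN hC
    obtain _ | ⟨e0, es⟩ := es
    · simp [bases] at hb
    have hb' : c b = im e0 ∧ (bases t).map c = es.map im := by
      have : bases ((L', ops, b, a, n) :: t) = b :: bases t := rfl
      rw [this, List.map_cons, List.map_cons, List.cons.injEq] at hb
      exact hb
    have e : sift2 tb im pt T ((L', ops, b, a, n) :: t) P L (e0 :: es) ws = cnd (Nat.ble a (wapR tb ws (im e0)))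
      (cnd (Nat.ble (a + n) (wapR tb ws (im e0))) true
        (walk tb (List.headD P fun _ => 0) (msk L) b (sift2 tb im pt T t P.tail L' es) 1000 (wapR tb ws (im e0)) ws))
      true := rfl
    have hp : wapR tb ws (im e0) = ((ev (gp nets) ws.reverse)⁻¹ * c) b := by
      rw [wapR_eq ht, ← hb'.1]; rfl
    have h4 := h3 _ hc
    rw [e, hp, ble_tt.2 h4.1, cnd_true, show Nat.ble (a + n) (((ev (gp nets) ws.reverse)⁻¹ * c) b) = false by
      rw [← Bool.not_eq_true, ble_tt]; omega, cnd_false] at h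
    obtain ⟨v, h5, h6, h7⟩ := walk_sound ht h
    have h8 : (ev (gp nets) v)⁻¹ * ((ev (gp nets) ws.reverse)⁻¹ * c) ∈ cl (gp nets) L :=
      Subgroup.mul_mem _ (Subgroup.inv_mem _ (ev_mem fun x hx => mem_cl (h5 x hx))) hc
    refine ih h1 h7 ?_ hb'.2
    rw [List.reverse_append, List.reverse_reverse, ev_append, mul_inv_rev, mul_assoc]
    exact (h2 _ h8).1 h6

/-- Outside `O` no image of the first base point is possible. -/
noncomputable def trB (tb tz : ℕ → ℕ → ℕ) (f : List ℕ → List ℕ) (U : List (List ℕ)) (T : List ℕ) (C : List Lev)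
    (P : List (ℕ → ℕ)) (L es : List ℕ) (b : ℕ) (O : List ℕ) : Bool :=
  cnd (decide (bases C = List.map (fun e => wap tz (nth [] U e) b) es))
    (force (msk O) fun M => allR 0 256 8 fun q => cnd (Nat.testBit M q) true
      (sift2 tb (fun e => wap tz (f (nth [] U e)) q) (fun e => wap tz (nth [] U e) b) T C P L es [])) false

section
variable {nets : List Net} (hN : NetsOK 2048 nets) {tb tz : ℕ → ℕ → ℕ} (ht : TbA nets tb) {z : ℕ → Equiv.Perm ℕ}
  (hz : TbG z tz) {C C2 : List Lev} {L : List ℕ} (hC : Exact nets (C ++ C2) L) {U : List (List ℕ)} {T es O : List ℕ}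
  {P : List (ℕ → ℕ)} {b : ℕ} (hb : b < 2048)
include hN hC

theorem card_fix_le {S : Subgroup (Equiv.Perm ℕ)} (hS : S ≤ cl (gp nets) L) (hf : ∀ s ∈ S, ∀ q ∈ bases C, s q = q) :
    Nat.card S ≤ (C2.map fun l => l.2.2.2.2).prod := by
  induction C generalizing L with
  | nil =>
    have := hN.finite L
    refine ((card_le_of_le hS).trans hC).trans ?_
    have : ∀ (D : List Lev) (L : List ℕ), chainB nets D L ≤ (D.map fun l => l.2.2.2.2).prod := by
      intro D
      induction D with
      | nil => intro _; exact le_rfl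
      | cons v t ih =>
        intro L
        have e : chainB nets (v :: t) L = cnd (lvlB nets L v.1 v.2.1 v.2.2.1 v.2.2.2.1 v.2.2.2.2)
          (v.2.2.2.2 * chainB nets t v.1) 0 := rfl
        rw [e, cnd_eq]
        split_ifs
        · exact Nat.mul_le_mul_left _ (ih _)
        · exact Nat.zero_le _
    exact this _ _
  | cons v t ih =>
    obtain ⟨L', ops, b, a, n⟩ := v
    obtain ⟨h1, -, h2, -⟩ := Exact.cons hN hC
    exact ih h1 (fun s hs => (h2 s (hS hs)).1 (hf s hs b List.mem_cons_self))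
      fun s hs q hq => hf s hs q (List.mem_cons_of_mem _ hq)

include ht hz hb

theorem trans_mem {f : List ℕ → List ℕ} (h : trB tb tz f U T C P L es b O = true) {c : Equiv.Perm ℕ}
    (hc : c ∈ cl (gp nets) L) (hu : ∀ u, c * ev z u = ev z (f u) * c) : c b ∈ O := by
  unfold trB at h
  rw [cnd_tt, decide_eq_true_eq, force_eq] at h
  have key : ∀ u p, c (wap tz u p) = wap tz (f u) (c p) := fun u p => by
    rw [wapG hz, wapG hz, ← Equiv.Perm.mul_apply, ← Equiv.Perm.mul_apply,
      show c * (ev z u)⁻¹ = (ev z (f u))⁻¹ * c by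
        rw [mul_inv_eq_iff_eq_mul, mul_assoc, hu, inv_mul_cancel_left]]
  have h1 := allR_sound h.2 (Nat.zero_le (c b)) (by have := (fx_of_mem_cl hN.fx hc).lt hb; omega)
  by_contra hO
  have h2 : Nat.testBit (msk O) (c b) = false := by rw [← Bool.not_eq_true, testBit_msk]; exact hO
  simp only [h2, cnd_false] at h1
  refine sift2_sound hN ht hC h1 (c := c) (by simpa [ev_nil] using hc) ?_ fun e _ => key _ _
  rw [h.1, List.map_map]
  exact List.map_congr_left fun e _ => key _ _

theorem card_cent_le (h : trB tb tz (fun u => u) U T C P L es b O = true) {S : Subgroup (Equiv.Perm ℕ)}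
    (hS : S ≤ cl (gp nets) L) (hu : ∀ c ∈ S, ∀ x, Commute c (z x)) :
    Nat.card S ≤ O.length * (C2.map fun l => l.2.2.2.2).prod := by
  have hu' : ∀ c ∈ S, ∀ u, c * ev z u = ev z u * c := fun c hc u =>
    (mem_centralizer_singleton_iff.1 (ev_mem (H := centralizer {c}) fun x _ =>
      mem_centralizer_singleton_iff.2 (hu c hc x).symm)).symm
  have := hN.finite L
  have : Finite S := Finite.of_injective _ (inclusion_injective hS)
  have e1 := card_mul_index ((stab (MonoidHom.id _) b).subgroupOf S)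
  have e2 := relIndex_stab (MonoidHom.id _) S b
  rw [← e1, mul_comm]
  refine Nat.mul_le_mul ?_ ?_
  · change relIndex _ _ ≤ _
    rw [e2]
    refine le_trans ?_ (List.toFinset_card_le O)
    rw [← Set.ncard_coe_finset]
    refine Set.ncard_le_ncard ?_ (Finset.finite_toSet _)
    rintro _ ⟨g, hg, rfl⟩
    simpa using trans_mem hN ht hz hC hb h (hS hg) (hu' g hg)
  · rw [← inf_subgroupOf_right, Nat.card_congr (subgroupOfEquivOfLe inf_le_right).toEquiv]
    refine card_fix_le hN hC (inf_le_right.trans hS) fun s hs q hq => ?_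
    unfold trB at h
    rw [cnd_tt, decide_eq_true_eq] at h
    rw [h.1] at hq
    obtain ⟨e, -, rfl⟩ := List.mem_map.1 hq
    rw [wapG hz, ← Equiv.Perm.mul_apply, (Commute.inv_right (hu' s hs.2 _)).eq, Equiv.Perm.mul_apply]
    exact congrArg _ hs.1

end

/-- Two substituted words agree on the base points. -/
noncomputable def seq2 (tb : ℕ → ℕ → ℕ) (B : List ℕ) (W : List (List ℕ)) (u w : List ℕ) : Bool :=
  allL B fun b => Nat.beq (wap (tw tb W) u b) (wap (tw tb W) w b)

theorem seq2_eq {nets : List Net} {G : Subgroup (Equiv.Perm ℕ)} {B M : List ℕ} {tb : ℕ → ℕ → ℕ} {W : List (List ℕ)}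
    (hB : IsBase G B) (ht : TbA nets tb) (hM : ∀ x ∈ M, gp nets x ∈ G)
    (hV : allL W (fun w => subB w M) = true) {u w : List ℕ} (h : seq2 tb B W u w = true) :
    ev (sv (gp nets) W) u = ev (sv (gp nets) W) w := by
  have h1 : ∀ u, ev (sv (gp nets) W) u ∈ G := fun _ => ev_mem fun x _ => sv_mem hM hV x
  rw [← mul_inv_eq_one]
  refine hB _ (G.mul_mem (h1 u) (G.inv_mem (h1 w))) fun b hb => ?_
  have := beq_tt.1 (allL_iff.1 h b hb)
  rw [wapG (tbG_tw ht W), wapG (tbG_tw ht W)] at this
  rw [Equiv.Perm.mul_apply, ← this]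
  exact app_inv _ _

section
variable {Γ : Type*} [Group Γ]

/-- Powers of an element as a homomorphism from a cyclic group. -/
def cyc (n : ℕ) [NeZero n] (a : Γ) (h : a ^ n = 1) : Multiplicative (ZMod n) →* Γ :=
  MonoidHom.mk' (fun x => a ^ (Multiplicative.toAdd x).val) fun x y => by
    rw [toAdd_mul, ZMod.val_add, ← pow_eq_pow_mod _ h, pow_add]

theorem cyc_apply (n : ℕ) [NeZero n] (a : Γ) (h : a ^ n = 1) (x : Multiplicative (ZMod n)) :
    cyc n a h x = a ^ (Multiplicative.toAdd x).val := rfl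

theorem card_le_of_fib [Finite Γ] (C : Subgroup Γ) {X : Type*} [Finite X] (Φ : Γ → X)
    (h : ∀ c c', Φ c = Φ c' → c⁻¹ * c' ∈ C) : Nat.card Γ ≤ Nat.card X * Nat.card C := by
  rw [← C.index_mul_card]
  refine Nat.mul_le_mul_right _ (Nat.card_le_card_of_injective (fun q : Γ ⧸ C => Φ q.out) fun q q' e => ?_)
  rw [← q.out_eq, ← q'.out_eq]
  exact QuotientGroup.eq.2 (h _ _ e)

theorem card_norm_le [Finite Γ] (A : Subgroup Γ) {X : Type*} [Finite X] (Φ : normalizer (A : Set Γ) → X)
    (h : ∀ c c', Φ c = Φ c' → (c⁻¹ * c').1 ∈ centralizer (A : Set Γ)) :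
    Nat.card (normalizer (A : Set Γ)) ≤ Nat.card X * Nat.card (centralizer (A : Set Γ)) := by
  have := card_le_of_fib ((centralizer (A : Set Γ)).subgroupOf (normalizer (A : Set Γ))) Φ h
  rwa [Nat.card_congr (subgroupOfEquivOfLe (centralizer_le_normalizer _)).toEquiv] at this

theorem quot_iso [Finite Γ] {A N : Subgroup Γ} (hA : A ≤ N) [(A.subgroupOf N).Normal] {H : Type*} [Group H]
    (f : H →* Γ) (hf : ∀ x, f x ∈ N) (h1 : ∀ x, f x ∈ A → x = 1) (hc : Nat.card N ≤ Nat.card H * Nat.card A) :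
    Nonempty (N ⧸ A.subgroupOf N ≃* H) ∧ Nat.card N = Nat.card H * Nat.card A := by
  let g : H →* N ⧸ A.subgroupOf N := (QuotientGroup.mk' _).comp (f.codRestrict N hf)
  have hg : Function.Injective g := (injective_iff_map_eq_one g).2 fun x hx =>
    h1 x ((QuotientGroup.eq_one_iff (N := A.subgroupOf N) _).1 hx)
  have e1 := (A.subgroupOf N).index_mul_card
  rw [Nat.card_congr (subgroupOfEquivOfLe hA).toEquiv] at e1
  have e2 := Nat.card_le_card_of_injective g hg
  have e3 : Nat.card (N ⧸ A.subgroupOf N) ≤ Nat.card H :=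
    Nat.le_of_mul_le_mul_right (e1.trans_le hc) Nat.card_pos
  exact ⟨⟨(MulEquiv.ofBijective g (hg.bijective_of_nat_card_le e3)).symm⟩, by
    rw [← e1, ← le_antisymm e3 e2]; rfl⟩

/-- Conjugation by a normalising element in coordinates. -/
theorem exists_tau {V : Type*} [AddCommGroup V] {ψ : Multiplicative V →* Γ} (hψ : Function.Injective ψ) {c : Γ}
    (hc : c ∈ normalizer (ψ.range : Set Γ)) :
    ∃ τ : V →+ V, ∀ v, ψ (Multiplicative.ofAdd (τ v)) = c * ψ (Multiplicative.ofAdd v) * c⁻¹ := by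
  have h : ∀ v : V, ∃ w : V, ψ (Multiplicative.ofAdd w) = c * ψ (Multiplicative.ofAdd v) * c⁻¹ := fun v => by
    obtain ⟨w, hw⟩ := (mem_normalizer_iff.1 hc _).1 (⟨Multiplicative.ofAdd v, rfl⟩ : _ ∈ ψ.range)
    exact ⟨Multiplicative.toAdd w, hw⟩
  choose t ht using h
  refine ⟨AddMonoidHom.mk' t fun a b => ?_, ht⟩
  apply Multiplicative.ofAdd.injective
  apply hψ
  rw [ofAdd_add, map_mul, ht, ht, ht, ofAdd_add, map_mul]; group

theorem mem_norm [Finite Γ] {z : ℕ → Γ} {L : List ℕ} {c : Γ} (h : ∀ i ∈ L, c * z i * c⁻¹ ∈ cl z L) :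
    c ∈ normalizer (cl z L : Set Γ) := by
  have h1 : cl z L ≤ (cl z L).comap (MulAut.conj c).toMonoidHom := cl_le.2 h
  exact mem_normalizer_fintype fun n hn => h1 hn

end

end Cfsg.Lib.SuzF
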