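import Cfsg.Agent.Lib.SuzF.A
import Cfsg.Agent.Lib.Comp.Suz.Out
import Cfsg.Agent.Lib.Comp.Suz.Main

/-! The Suzuki sporadic group acting on 1782 points: a context for word computations. -/

set_option autoImplicit false
set_option maxRecDepth 100000

namespace Cfsg.Lib.SuzF

open Cfsg.Lib.Comp Cfsg.Lib.Comp.Suz Subgroup

variable {Γ : Type*} [Group Γ]

/-- A faithful action with the standard image. -/
structure Ctx (φ : Γ →* Equiv.Perm ℕ) : Prop where
  inj : Function.Injective φ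
  rng : φ.range = cl (gp on) oL

theorem exists_ctx (e : Γ ≃* Spor.Suz) : ∃ φ : Γ →* Equiv.Perm ℕ, Ctx φ := by
  obtain ⟨e', -⟩ := Suz.equiv
  obtain ⟨φ, h1, h2⟩ := o_phi (e.trans e')
  exact ⟨φ, h1, h2⟩

theorem card_oL : Nat.card (cl (gp on) oL) = 448345497600 := by
  have := nets_ok.finite L
  exact le_antisymm ((card_le_of_conj o_conj).trans card.le) (lb_of_chainB on_ok o_ch)

/-- The element given by a letter. -/
noncomputable def gam (φ : Γ →* Equiv.Perm ℕ) (x : ℕ) : Γ := Function.invFun φ (gp on x)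

/-- The element given by a substituted letter. -/
noncomputable def el (φ : Γ →* Equiv.Perm ℕ) (W : List (List ℕ)) : ℕ → Γ := sv (gam φ) W

/-- All words are in the generating letters. -/
noncomputable def okW (W : List (List ℕ)) : Bool := allL W fun w => subB w oL

theorem baseO : IsBase (cl (gp on) oL) [0, 1, 2, 3, 486] := o_ex.isBase on_ok

namespace Ctx
variable {φ : Γ →* Equiv.Perm ℕ} (h : Ctx φ)
include h

theorem card : Nat.card Γ = 448345497600 := by
  rw [← card_oL, ← h.rng]; exact Nat.card_congr (MonoidHom.ofInjective h.inj).toEquiv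

theorem finite : Finite Γ := Nat.finite_of_card_ne_zero (by rw [h.card]; norm_num)

theorem mem (g : Γ) : φ g ∈ cl (gp on) oL := h.rng ▸ ⟨g, rfl⟩

theorem conj (g : Γ) : Ctx (φ.comp (MulAut.conj g).toMonoidHom) :=
  ⟨h.inj.comp (MulAut.conj g).injective, by
    rw [← h.rng, MonoidHom.range_comp, MonoidHom.range_eq_top_of_surjective _ (MulAut.conj g).surjective,
      ← MonoidHom.range_eq_map]⟩

theorem map_el {W : List (List ℕ)} (hW : okW W = true) (x : ℕ) : φ (el φ W x) = sv (gp on) W x :=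
  sv_map (fun _ hx => Function.invFun_eq (h.rng.ge (mem_cl hx))) hW x

theorem map_ev {W : List (List ℕ)} (hW : okW W = true) (u : List ℕ) : φ (ev (el φ W) u) = ev (sv (gp on) W) u := by
  rw [ev_map]; exact congrArg (ev · u) (funext (h.map_el hW))

theorem eq {W : List (List ℕ)} (hW : okW W = true) {u w : List ℕ} (he : seq2 tb [0, 1, 2, 3, 486] W u w = true) :
    ev (el φ W) u = ev (el φ W) w :=
  h.inj (by rw [h.map_ev hW, h.map_ev hW]; exact seq2_eq baseO tb_ok (fun _ => mem_cl) hW he)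

theorem ne {W : List (List ℕ)} (hW : okW W = true) {u : List ℕ} {p : ℕ}
    (he : Nat.beq (wap (tw tb W) u p) p = false) : ev (el φ W) u ≠ 1 := fun e => by
  rw [wapG (tbG_tw tb_ok W), ← h.map_ev hW, e, map_one, inv_one, Equiv.Perm.one_apply, Nat.beq_refl] at he
  exact Bool.noConfusion he

theorem lt (g : Γ) {p : ℕ} (hp : p < 1782) : φ g p < 1782 := by
  obtain ⟨-, -, -, h3, h4, -⟩ := Exact.cons on_ok o_ex
  obtain ⟨s, hs, rfl⟩ := h4 p (Nat.zero_le _) (by omega)
  simpa using (h3 _ (mul_mem (h.mem g) hs)).2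

theorem comap_cl {W : List (List ℕ)} (hW : okW W = true) (L : List ℕ) :
    (cl (sv (gp on) W) L).comap φ = cl (el φ W) L := by
  rw [← map_cl_of_gen (γ := el φ W) (f := φ) fun x _ => h.map_el hW x, comap_map_eq_self_of_injective h.inj]

theorem cen_le {W : List (List ℕ)} (hW : okW W = true) {tz : ℕ → ℕ → ℕ} (hz : TbG (sv (gp on) W) tz)
    {C C2 : List Lev} (hC : C ++ C2 = oC) {U : List (List ℕ)} {T es O : List ℕ}
    (ht : trB tb tz (fun u => u) U T C oP oL es 0 O = true) {A : Set Γ} (hA : ∀ x, el φ W x ∈ A) :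
    Nat.card (centralizer A) ≤ O.length * (C2.map fun l => l.2.2.2.2).prod := by
  rw [Nat.card_congr (equivMapOfInjective _ φ h.inj).toEquiv]
  refine card_cent_le on_ok tb_ok hz (hC ▸ o_ex) (by norm_num) ht ?_ ?_
  · rintro _ ⟨c, -, rfl⟩; exact h.mem c
  · rintro _ ⟨c, hc, rfl⟩ x
    rw [← h.map_el hW]
    exact Commute.map (show Commute c _ from (hc _ (hA x)).symm) φ

theorem exists_le {p : ℕ} [Fact p.Prime] (P : Sylow p Γ) {S : Subgroup (Equiv.Perm ℕ)}
    (hS : IsPGroup p (S.comap φ)) : ∃ φ' : Γ →* Equiv.Perm ℕ, Ctx φ' ∧ S.comap φ' ≤ P := by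
  have := h.finite
  obtain ⟨Q, hQ⟩ := hS.exists_le_sylow
  obtain ⟨g, rfl⟩ := MulAction.exists_smul_eq Γ Q P
  refine ⟨_, h.conj g⁻¹, fun x hx => ?_⟩
  refine ⟨g⁻¹ * x * g⁻¹⁻¹, hQ hx, ?_⟩
  simp [mul_assoc]

end Ctx

theorem el_big (φ : Γ →* Equiv.Perm ℕ) {W : List (List ℕ)} {x : ℕ} (hx : W.length ≤ x) : el φ W x = 1 := by
  unfold el sv
  rw [nth_eq, List.getD_eq_default _ _ hx]; rfl

end Cfsg.Lib.SuzF
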