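import Cfsg.Agent.Lib.SuzF.C7
import Cfsg.Agent.Lib.Known2.TCSym

/-! The 5-local structure of the Suzuki sporadic group. -/

set_option autoImplicit false
set_option maxRecDepth 100000

namespace Cfsg.Lib.SuzF

open Cfsg.Lib.Comp Cfsg.Lib.Comp.Suz Subgroup Multiplicative

variable {Γ : Type*} [Group Γ]

/-- Adjoining a cyclic factor. -/
def ext1 {V : Type*} [AddCommGroup V] (n : ℕ) [NeZero n] (a : Γ) (ha : a ^ n = 1) (ψ : Multiplicative V →* Γ)
    (hc : ∀ v, Commute a (ψ v)) : Multiplicative (ZMod n × V) →* Γ :=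
  MonoidHom.mk' (fun x => a ^ (toAdd x).1.val * ψ (ofAdd (toAdd x).2)) fun x y => by
    rw [toAdd_mul, Prod.fst_add, Prod.snd_add, ZMod.val_add, ← pow_eq_pow_mod _ ha, pow_add, ofAdd_add, map_mul,
      mul_assoc, mul_assoc, ← mul_assoc (ψ _), ← ((hc _).pow_left _).eq, mul_assoc]

/-- The letters `LX` normalise the group generated by the letters `LA`. -/
noncomputable def nrmB (W : List (List ℕ)) (D : List (List (List ℕ))) (LX LA : List ℕ) : Bool :=
  allL LX fun x => allL LA fun i => cnd (subB (nth [] (nth [] D x) i) LA)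
    (seq2 tb [0, 1, 2, 3, 486] W [x, i] (apd (nth [] (nth [] D x) i) [x])) false

theorem Ctx.nrm {φ : Γ →* Equiv.Perm ℕ} (h : Ctx φ) {W : List (List ℕ)} (hW : okW W = true)
    {D : List (List (List ℕ))} {LX LA : List ℕ} (hb : nrmB W D LX LA = true) :
    cl (el φ W) LX ≤ normalizer (cl (el φ W) LA : Set Γ) := by
  have := h.finite
  refine cl_le.2 fun x hx => mem_norm fun i hi => ?_
  have h1 := cnd_tt.1 (allL_iff.1 (allL_iff.1 hb x hx) i hi)
  have h2 := h.eq hW h1.2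
  rw [apd_eq, ev_append, ev_single, ev_cons, ev_single, ← mul_inv_eq_iff_eq_mul] at h2
  rw [h2]
  exact ev_mem fun y hy => mem_cl (sub_of_subB h1.1 y hy)

theorem cent_of_conj {A : Set Γ} {c c' : Γ} (h : ∀ a ∈ A, c * a * c⁻¹ = c' * a * c'⁻¹) : c⁻¹ * c' ∈ centralizer A :=
  fun a ha => calc a * (c⁻¹ * c') = c⁻¹ * (c * a * c⁻¹) * c' := by group
    _ = _ := by rw [h a ha]; group

noncomputable def W5 : List (List ℕ) := [[],
 [17,1,2,1,18,20,16,11,17,17,22,15,15,21,20,20],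
 [11,21,1,18,13,11,18,19,19,16,21,23,22,24],
 [16,12,9,17,14,11,11,17,19,19,19],
 [18,20,8,21,24,11,13,16,16,23,15,23,21,24],
 [11,11,2,16,24,13,11,18,19,17,19,19,23]]

def U5 : List (List ℕ) := [[],
 [1,1],
 [1,2],
 [1,1,2],
 [1]]

def O5 : List ℕ := [0,1,2,3,27,91,94,221,236,252,295,486,521,529,588,629,631,642,652,683,699,827,884,919,963]

noncomputable def T5 : List ℕ := [0,
 (J 8192 (nat_lit 0xe175ad3f1ed148762ba30e7d91854f03b22a5615f7863b26ca9ea6b8a0a96504da41c68bed5edef4fb514a9041ae486e49ad3d433097398e478be525d46037a8823c8090987f793d43b265353e058b0c902c62041251c544afd8b25d9f81014aaa9bb97d87151f3b0854b2d92a43f91276d2a11ad32b7bb25b9b5ffaf2028022d9b8146823992dac8d6719903f297c286d890b5b4f84940af268d41d944c6ecf2cf4deb589035b263cfe8e998283f47d832509fe5d567a1dac9e5420186d5f11935b2e4760a2adc26a2c4710ea489485f3b80ed7a3300001accf337b1535f3713d874c1b739141eec45386cb29a83e7ab398f0b6d35daebfe5b823f6fbba0c37d19f4c798ad623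58c4dc6c45f1ccaaf0cc1db019c2ee1e733cf17b98af4c4984ee8f142aeae874093d160646e9f0965295595cb9571f1644ebeeabe4db9d12b02cd2f1b533158c478d8d75cfef70065b3bb336e7b09a7aede2cf50f3d61f94dcf98860064eca2184e4160d21d26b0cd3c916a82297815907ebbcad6bb02a70cf80e0880da2e31c2bb8a4c419aa8fb969b399a4bcd5696391d295508c57dadec4b17dc542805b3651ba6f1072e6dabf92492fe06aa645d17d7c46828db36d83317eed59d6b1319eef1efb6228a3e0df08653a08826ba05cdb85aa6ad02cd62928215b0a6c9ed7c30204d8a3aa785c90daa6555d221a9a40788e2215b648babd235182a45a602448a7fd2ea55962cd3053a1932a174028693506dfabf485a970986d5c3624b55bae07914e52960548e172ce589b19403603e1677e5d7dd816316a0c8709c6f67734bd6b618eddb3373f2cb5793154a14477c75267b904eae6aa061502cf391b9a8c1eed6e99125b93261509538435433bcd594e71ca5ba8b992572998b86dbcac87910a6accc2e82e8b4d7189491c4dc7eafa9c5c2441400056008694ef6385e6125423fedd1cc9b0df9dd1ed224468226731a574282cab7057eb99afe418f190745b3d247bcb38b67d088b86ed7b676dbf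4d2c9a432c4aef03b2a0cb9ff6bcd3400d37569be2840f54055040110903cdeb69cd18e9ee81fad01c9e6df7baf0622d8050804f5861b6226444b22d8c3ba7ae01f5a1b42d4499d5da0e12bed78bea294450c338efe6cc520777e0db9b82244a768d7e2e895b581f78d1a72ae4bf6b4ad56ba943ec4f20d69d254d71fb55fc6cf25bcaf4a866826e8c5858e6b3a16acc2e4c7eb3db7591432cbbb1a52dacccdbd4ee5ddcab5c09dc312de5188fe14be0be60385fa78c431114e1c9d03622b5b0495bb02158823918e03351db7311c1a84570500ab493fdcf4c5d2179c0680d47de651cef2faebd49002538b8e66cab2180289bc96ad72a1270132ab53cd73345095a155653090ab10d69cb010b7b4541e0505c2bb89cd83370161a50b4b89f48e4edd6e67600de19e6)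
 (J 8192 (nat_lit 0x1a749d655826a65bec7d004025ba2f198c4a31bd96d651abcfd5558cd3429e1644c4857197ae4c0494767b114cdf3e477203d6328651609b8d3646f88e579b484218f5a0204bd97a9c7d67827550207e4d071f380b6ac5c90566b1d428c443eb18abd40088ba79f2635281ab0120416b68c1ddbdbe41e40a6d608b4c1b94293d8a5cb08f066e628bba4d9192bf781ffb655bf29d3b3ecb465ff5d4545c255591aa646ca1e0956d66a182a0dda6fd79ef2a90689adcfc87f3e676b7436d7be5c5e2169c6efdc37ebfd830aa686c83f45a1e28fb0bf33da1cb96176ddc7e2923f11a0b83348e1aa12530894f7a2285506814f390f12730c8b6ce27f1b0a41cf5cd634232360d200b44a1a2d6af54ef1c01f566c75c226fba66535102087183cdc3438e56618d7b529bd958bc9d03910f8c90f0e52936709aba2c50e1290eb7734a04cc6035eddbdd529e57f1df9d2d49de836c9f145e70b2d2b4886c62d6273803703753b565cec778f6b2f6cb0e2774696b50212397476dcbbf4dbc462ec0daef9d83cc072b321f8a470ce132ba0069782cbb4b3dad8715b503ae07532f53597cc3457926c93bc533896ad41589f599cf66d69532512edcae44e532d510155e110d6b728d234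63a622b97821725254bb4248c733c8ac766521974b664f258c680646f155feba71eb1c5f16cec18ba82d6a44c360928987419903439007cd47e754fe1b8320c66c309427913cc04fc65d24ecb41742720b08692c056d54b301b88dcdfd40f283159d857566aeac6063a06225b208f474f693b589843e39e30b0334ee69fcc30c000bddd0290718d3c8a6690cb95d2b948c24e15b78e88b52a022b953ce540cb0f5da0ab38237035991e945501a01d95b0c58551d617b4e81682b39543d34635f05d0d9672fa0f6d8408bab8db3509bd80942bcca4cae5f0121f49d1b4c1c5f2cec44cb95073285efb10fd850d0a4b843c625a24350d1cc8434494c2bfd10344c5afc03b7c0166a308d1f9398ea498334c36ca7d0c7de01102f994deb3edb24b8840262bc4f06d2ec94a038cc147061e2b67e3a82a357ab8e777f60bf1301ada969c8a564c6495119c6357662716193dd8b27453fc15631e78562c209ba9cb0752fb30c08319164b6cc49f9682a567e92a922c3469ce22a9b4a2275b3872e3287dc6b7fc5532f75436dd9240346fba9fbd0ddf530c884f2f51d1192f2410cb480ac060cb515a10c6a6d16bdb5001efc69d68969152b0ce8683d3baf66a6d2d13e3634069c561cb16f0b756caf0b9552fae833757d4c6f1261522cca8a15a8283844d2a58bbeb373a895aa43a112b8bb99539269cd1a493aced118a116500d51d3e83590d5d2a8691b1aa2b8ee23775e321274a2b2388d50eb2568e59028079dc97a39087ba7ac1d502726436528ea580cc49f0f5e110a8f20c237e)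
 (nat_lit 0xfffffbfeffcff7febfcff8feffdbfaff4fe7fcbf8ff0fdffbbf6fecfd7fabf4fe8fcff9bf2fe4fc7f8bf0fe0fbff7beefdcfb7f6becfd8faff5beafd4fa7f4be8fd0f9ff3be6fccf97f2be4fc8f8ff1be2fc4f87f0be0fc0f7fefbdefbcf77eebdcfb8f6fedbdafb4f67ecbd8fb0f5febbd6facf57eabd4fa8f4fe9bd2fa4f47e8bd0fa0f3fe7bcef9cf37e6bccf98f2fe5bcaf94f27e4bc8f90f1fe3bc6f8cf17e2bc4f88f0fe1bc2f84f07e0bc0f80effdfbbef7cef7debbcf78eefddbbaf74ee7dcbb8f70edfdbbb6f6ced7dabb4f68ecfd9bb2f64ec7d8bb0f60ebfd7baef5ceb7d6bacf58eafd5baaf54ea7d4ba8f50e9fd3ba6f4ce97d2ba4f48e8fd1ba2f44e87d0ba0f40e7fcfb9ef3ce77ceb9cf38e6fcdb9af34e67ccb98f30e5fcbb96f2ce57cab94f28e4fc9b92f24e47c8b90f20e3fc7b8ef1ce37c6b8cf18e2fc5b8af14e27c4b88f10e1fc3b86f0ce17c2b84f08e0fc1b82f04e07c0b80f00dffbfb7eefcdf7beb7cef8defbda93cc41fce0c338073c8414f281ea39aa2659bc58a7a2670f9ccfa0935b05b9f2b0f3ccc0c88746528347c0870a22c90481b3248191c8f6446de76e1d6de3810d107515e6530991c5ddb83db919819c1d351993e64c038890bbc4eb1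eae1e917bc634961cd8439f64cd0cf7605a10c8223d2f81053c6ec78a647fb4a421414bf268a538799d2e9d0638a1e20a7539e0636a01ce2715e0cf0f8aa31cc169a55cd723982813bcd9c8a112e25b9d3e24b85b6989f6bce94a332cc1f6428c62a314d8b19a538e594a78cfd76298edf2e39ace9963ad5951bd1d60a67e0fbf5a09968f479a88e119d42375d197a7bd569495b0b457245d42586d009a133e30bdf9c2e332dc648162120a56e2012b604be2f175d5d1752de0873d1db562b72c6d34ff0730883bb2f92bda12901d03dbad41356a96cdb4d840d2d1b26a175a9f9b4a7b2719b739b3ec5c5cc5c4d178cb5bfcfea1be9116d4f4fc2dbc34139a16c616b5809d04b43091a1999ebb6c582102786259d40922621b34ddc48be3ba532558db8dfccf9ae8f0f9ef260142f098024429f634e1))),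
 (J 8192 (nat_lit 0xdf8877ce74cc5100c845beb68473ee988e6362ee9fb071537bc4b8cde06985863ad08df8036248e43b2ed626ee138e6668d2345a700f3b8062ae8f329c13cda915e97f2640c5bb8bf9c579eb034f99213cfd82a7870c8f9c040cf5d03c413acb47a870cf12e1fa7540c1e0e88a0c6082c72a6e673d18f6ee64461f610b482111d617289ec835d39e212e031ee5ee19669e958e7361786b4f9f86cd5572e53b9564949b1fb9210fad17598d5c1cba982e21c8c38a5b5c715ee31309c68e8b3a2c51936ac8c113dd5e74275a44c37cd4d4cb64de04b61a05b9e3b495a32f5ab8909021c55d68d208d26fa544e8a01b91228f732caa24d7300651ef0ec2b06bd9d25f71c24310b4b18a28686439cd1b0298885131039fda9a5bc6d466fbc8141ec129623fb601708114114a060175eb46947d6f12645064e6877a8d13f9605332e6c8932ec7c0f1d11e74489818b3aef21dc0525a89ba6405903aab0a53d76b51c5c1998008c3977a240736ecd3d9838c051a4a7299d3cae8a4e9bc91d17de4a62f0eea982ccaa4a535eaff76f8d69aecf747b797f3490c0601d958507f0a12ae18b25d28a283cd739939952a15e677a9b6f5af5afc7ec9a365c90d298b2438a9f80445a4fa2dc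679f0bc9273a344f8d77979e7503104847eb55085bd927c674e503e54a42e0dad345820d5a2123e13c2db9786ca7fb4196badc3c8f980aa9a54a4d23cc7c19e62b2249957e55c50daa92c3d84b7502d11c3198c9a8d9e3179316d249a0cc2b70c72d975e44e9edb52b4dd944b368dce2b8bbbd33851e36b21e6cc9b26d3b70c5e217db249397d3ebd462a1f55989e696641cdb7d300010057ae6b23254c6c40c8183d151f8ff0a30cc0f875c0c943b3ecbaa94c2d63280c0d3b59ba490d3627f4d11f1c6a6aec2353a731c378b4389669c858ca5904e029992aa2c8384528abb4b50e4ecddf05d60de01014d18995d5a82178d2a3a09757b1e432be108025e933f44e524e3ea84d254076603a154acd2b4adc149a6b488989a2efeb42c7a511da6eb89e72d2805f06424f440c400c0b7798d07cf5216e51811b78e7c5fe87d8fa6867a502fe3332fdc04896d2be66b13e4725d92b18653b20dd64319f747016c0429e1480f559eba9d0726d7572584a9ee21390a763b13b510748044a32042046ea84f4a39b9ecd85710887101edac27be4ef10f6c23bc01cb2bcf3c77c5b71fd7ae4523284ac0b1fb69e3a8448664107fbd10e91e88e4fa06d815d31bb41e582c6ca77baed5e6cc865e0a231d8b5dc5ccf0112138ca82b496a408f98403a6bc82d2f8955a26abb7dd863864501be90b29c69abdbaf59b86f6d8f82a126a8552370fbe583f57664263702e34b61df9eb33674428003b05105f65603d9c1d8c83a6fc79587892c59d24487519d594618322901c49a26e849c01a8c)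
 (J 8192 (nat_lit 0xe5cec4f6919c4786ff6ba15a83777ba2981a01f559834107a9426e8e9e4c84bc50908821579651a93922a8f57cbd0e0c3b5593d00ab5c6fdaacb7b55614d829f272ee933cb01812ea368ea4a5b7ce0cd87c372d36b88f66d5c1c3598192195a3aaa1cffa606cf102e0162cbe306092155294352b808742ad85903ea04b62295f7371432175d60797eccd38579a0e06c6b0ba256e9a499b767f88c0a40284c604a134b97723e1c4882954ce52d3e2f69add2e937625a629faf52746cee66b94b036eae5860d8f7ed6a4066cbb6935d6bb9228265978babf4a245ebb205bc71bd7166d0dacb8f18d541bc16e7cb9554d77b4589c3f66670ec54b1ba154ca76087257e70e2d6760a57563f551244dd75d8d5a4d1fa1b7d28e7ab6161cdc1b08950b7e70b4db28a330dc16566d9b2a962e3afa3514c9dc1911497db33cc2c60e8fbbcecba0e4fb0446a995f2cb8611972b400736687082951b1de2474e4764692cdcea2e8ba6649562d147b6a493567906ae4f14d02ce454f5deba4bbd2247b6e2b3186a968b5b3c45b12cbc7d55b930ac218eae4a54ad9f9c2570c36465440903ad6c80ab9053b93b5f235144a498d4be7b0b06e35210dcc676c0838fb8bc95d33048565a69d49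3548a5fee4ca0782595325e15f74ac5f5daa19a5e0a4b678727b68629292be0c077a6a2d83bf8bd554093a08ce5cf4f03d1dd16eebb0c8304f30e95f06f4de486d9bf4a929a99db58381aab5adae582fc41a080e7118175bf8c61488438ee78a818ed8d024a820b1d3b72c5983b2c8ad67181310297ab7ed0ab269e080c28236c500285b1755c1f917352851df65a04a05cba33525e44428c2f8a35b63884c38a2b2376b94e239ebfb04c932241ad7639f945051bd51ed9600d1cb7ed65f231e0b021880274407262bdaf6c678a8961783a74a95f93ed1c9e805c8c2b8809a04b84a937c86a1b5e5b51914877b8bfe398b571cac72b6689758da1e2487c51105e5b49eef28882b9aa06f13d8fd677201084635bf7bdcc303b2d6e80c3d0284c46d15b7785a6eb936353515503986a80ec44f5a06d24e31e28455a9feead3fd2f70b35167dc50cd7ce220016e2e6a7edb63521bda145483ca2e2558ad48b7ae1d08e982a00c2e0c06694cf3753d974bb8c263a5c3c0d7ab66dbb05eab76745559349f020f40c9cc763865b1b753254bd82fa1f842ccaa7a9c73971d8662f6da4a5945f609c2abc50507d0b435043190eb728ed7479422c668526b6d9d6a0ee2804d2525e999f602064ea57b5c27ca96c03158db5f0d188dbb66f8d22f5990a8ba1b228bdb2ef7b39681806418396e7bb667c7fb7b9dce08b6e2910f8e48b13f7fcee45d185d7eb50f66520c357c8ea228c2f44a9e70b7d302b2229612eb34c049d233c9fde784752af11e470d59f0aee4d5b38695c3b395f5066eb)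
 (nat_lit 0xfffffbfeffcff7febfcff8feffdbfaff4fe7fcbf8ff0fdffbbf6fecfd7fabf4fe8fcff9bf2fe4fc7f8bf0fe0fbff7beefdcfb7f6becfd8faff5beafd4fa7f4be8fd0f9ff3be6fccf97f2be4fc8f8ff1be2fc4f87f0be0fc0f7fefbdefbcf77eebdcfb8f6fedbdafb4f67ecbd8fb0f5febbd6facf57eabd4fa8f4fe9bd2fa4f47e8bd0fa0f3fe7bcef9cf37e6bccf98f2fe5bcaf94f27e4bc8f90f1fe3bc6f8cf17e2bc4f88f0fe1bc2f84f07e0bc0f80effdfbbef7cef7debbcf78eefddbbaf74ee7dcbb8f70edfdbbb6f6ced7dabb4f68ecfd9bb2f64ec7d8bb0f60ebfd7baef5ceb7d6bacf58eafd5baaf54ea7d4ba8f50e9fd3ba6f4ce97d2ba4f48e8fd1ba2f44e87d0ba0f40e7fcfb9ef3ce77ceb9cf38e6fcdb9af34e67ccb98f30e5fcbb96f2ce57cab94f28e4fc9b92f24e47c8b90f20e3fc7b8ef1ce37c6b8cf18e2fc5b8af14e27c4b88f10e1fc3b86f0ce17c2b84f08e0fc1b82f04e07c0b80f00dffbfb7eefcdf7beb7cef8defbda5718965445684361d6aaca320642d7950d34ed03c3ab1dab3d2d4457bade01c5576e4d4a98495b926e74ea2f37d29ae3aa5bd13a372fa25355e65a83377e8317c23ec6a2c194df878d88042fff30c47cd66490fc8f5000354695431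b5883de04091084a5e384d78d4860998a97814e01a08e88d9f6121e8cae26eed41662ad385339150d9c875dbcfb4a3ec98ad1ad4bcec1871eb5e2e542f6082855895825115a3f540769121d88c4cf19d60cce2b75d2dff6f1a7f3eea57a909b163ad592e2f3fda6c3cc1a638b058f28568bb598608f4554694ee59e0b499090d9879f80b274a9d59c6ea256c01964cafb33b1cd1532a98e35fb0ae53630dc7e333b349ddce8db4e4b9bd429183b0f5281a08414817a62ae4b04d208608231248b2013748e5d86b3e7eaacbeb8dd604efd330183341572b81d7160f652bf1544933987a99251fbd5114c1d6b71e7c807d7809722c56aaab2b2b6dc9f981434d7f232a7b2d154e7b68ecc70adf0a89a1523a3b37648a8020525d41504630660335859797e48388d4e42d305e183aab345fa8817a347bd0b)))]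

theorem ok5 : okW W5 = true := by decide +kernel

theorem ok5' : okW (W5.take 3) = true := by decide +kernel

theorem tb5 : TbG (sv (gp on) (W5.take 3)) (tt T5) :=
  tbG_tt on_ok tb_ok (n := 3) (by decide +kernel) (by decide +kernel) (allN_iff.1 (by decide +kernel))

theorem tr5 : trB tb (tt T5) (fun u => u) U5 [] oC oP oL [0, 1, 2, 3, 4] 0 O5 = true := by
  decide +kernel

theorem fx5 : allR 0 198 9 (fun p => cnd (Nat.beq p 491) true (cnd (Nat.beq p 848) true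
    (allN 5 fun i => force (witer (tt T5) [1] i p) fun q => allN 5 fun j =>
      cnd (Nat.beq (witer (tt T5) [2] j q) p) (cnd (Nat.beq i 0) true (cnd (Nat.beq j 0) true (Nat.beq i j))) true)))
    = true := by
  decide +kernel

theorem fact5 : Fact (Nat.Prime 5) := ⟨by norm_num⟩

attribute [local instance] fact5

/-- Coordinates. -/
abbrev V5 := ZMod 5 × ZMod 5

/-- The elements with many fixed points. -/
def In5 (v : V5) : Prop := v.1 = 0 ∨ v.2 = 0 ∨ v.1 = v.2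

instance : DecidablePred In5 := fun v => inferInstanceAs (Decidable (v.1 = 0 ∨ v.2 = 0 ∨ v.1 = v.2))

/-- At least three fixed points. -/
def F3 (φ : Γ →* Equiv.Perm ℕ) (c : Γ) : Prop := ∃ p q r, p < 1782 ∧ q < 1782 ∧ r < 1782 ∧ p ≠ q ∧ p ≠ r ∧ q ≠ r ∧
  φ c p = p ∧ φ c q = q ∧ φ c r = r

/-- The action of an element of order three. -/
def M5 (v : V5) : V5 := (4 * v.2, v.1 + 4 * v.2)

namespace Ctx
variable {φ : Γ →* Equiv.Perm ℕ} (h : Ctx φ)
include h

omit h in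
theorem fix_conj (g : Γ) {c : Γ} {p : ℕ} (hp : φ c p = p) : φ (g * c * g⁻¹) (φ g p) = φ g p := by
  rw [← Equiv.Perm.mul_apply, ← map_mul, inv_mul_cancel_right, map_mul, Equiv.Perm.mul_apply, hp]

theorem f3_conj (g : Γ) {c : Γ} (hc : F3 φ c) : F3 φ (g * c * g⁻¹) := by
  obtain ⟨p, q, r, a1, a2, a3, a4, a5, a6, a7, a8, a9⟩ := hc
  exact ⟨φ g p, φ g q, φ g r, h.lt g a1, h.lt g a2, h.lt g a3, (φ g).injective.ne a4, (φ g).injective.ne a5,
    (φ g).injective.ne a6, fix_conj g a7, fix_conj g a8, fix_conj g a9⟩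

theorem pow51 : el φ W5 1 ^ 5 = 1 := by
  simpa [ev, pow_succ, mul_assoc] using h.eq ok5 (u := [1,1,1,1,1]) (w := []) (by decide +kernel)

theorem pow52 : el φ W5 2 ^ 5 = 1 := by
  simpa [ev, pow_succ, mul_assoc] using h.eq ok5 (u := [2,2,2,2,2]) (w := []) (by decide +kernel)

theorem com5 : Commute (el φ W5 1) (el φ W5 2) := show _ * _ = _ * _ by
  simpa [ev] using h.eq ok5 (u := [1,2]) (w := [2,1]) (by decide +kernel)

/-- The Sylow 5-subgroup in coordinates. -/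
noncomputable def psi5 : Multiplicative V5 →* Γ :=
  ext1 5 (el φ W5 1) h.pow51 (cyc 5 (el φ W5 2) h.pow52) fun _ => h.com5.pow_right _

theorem psi5_apply (v : V5) : h.psi5 (ofAdd v) = el φ W5 1 ^ v.1.val * el φ W5 2 ^ v.2.val := rfl

theorem pt5 (v : V5) (p : ℕ) : (φ (h.psi5 (ofAdd v)))⁻¹ p = witer (tt T5) [2] v.2.val (witer (tt T5) [1] v.1.val p) := by
  rw [witerG tb5, witerG tb5, psi5_apply, map_mul, map_pow, map_pow, mul_inv_rev, Equiv.Perm.mul_apply,
    ← h.map_el ok5', ← h.map_el ok5']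
  rfl

theorem in5 {v : V5} (hv : F3 φ (h.psi5 (ofAdd v))) : In5 v := by
  have key : ∀ p < 1782, φ (h.psi5 (ofAdd v)) p = p → p ≠ 491 → p ≠ 848 → In5 v := fun p hp e h1 h2 => by
    have h3 := allR_sound fx5 (Nat.zero_le p) (by omega)
    rw [show Nat.beq p 491 = false by rw [← Bool.not_eq_true, beq_tt]; exact h1,
      show Nat.beq p 848 = false by rw [← Bool.not_eq_true, beq_tt]; exact h2, cnd_false, cnd_false] at h3
    have h4 := allN_iff.1 h3 _ (ZMod.val_lt v.1)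
    rw [force_eq] at h4
    replace h4 := allN_iff.1 h4 _ (ZMod.val_lt v.2)
    rw [← h.pt5, Equiv.Perm.inv_eq_iff_eq.2 e.symm, Nat.beq_refl, cnd_true] at h4
    simp only [cnd_eq, beq_tt, ZMod.val_eq_zero] at h4
    unfold In5
    split_ifs at h4 with a b
    · exact Or.inl a
    · exact Or.inr (Or.inl b)
    · exact Or.inr (Or.inr (ZMod.val_injective 5 (beq_tt.1 h4)))
  obtain ⟨p, q, r, a1, a2, a3, a4, a5, a6, a7, a8, a9⟩ := hv
  by_contra hn
  have b : ∀ p < 1782, φ (h.psi5 (ofAdd v)) p = p → p = 491 ∨ p = 848 := fun p hp e => by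
    by_contra hh
    exact hn (key p hp e (fun x => hh (Or.inl x)) fun x => hh (Or.inr x))
  have b1 := b p a1 a7
  have b2 := b q a2 a8
  have b3 := b r a3 a9
  clear a7 a8 a9 b key
  omega

theorem f3_of {v : V5} {p q r : ℕ} (hp : p < 1782 ∧ q < 1782 ∧ r < 1782 ∧ p ≠ q ∧ p ≠ r ∧ q ≠ r)
    (hf : ∀ x ∈ [p, q, r], witer (tt T5) [2] v.2.val (witer (tt T5) [1] v.1.val x) = x) :
    F3 φ (h.psi5 (ofAdd v)) := by
  simp only [← h.pt5, Equiv.Perm.inv_eq_iff_eq, List.forall_mem_cons] at hf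
  exact ⟨p, q, r, hp.1, hp.2.1, hp.2.2.1, hp.2.2.2.1, hp.2.2.2.2.1, hp.2.2.2.2.2, hf.1.symm, hf.2.1.symm,
    hf.2.2.1.symm⟩

theorem f31 : F3 φ (h.psi5 (ofAdd (1, 0))) := h.f3_of (p := 11) (q := 40) (r := 307) (by omega) (by decide +kernel)
theorem f32 : F3 φ (h.psi5 (ofAdd (0, 1))) := h.f3_of (p := 196) (q := 414) (r := 552) (by omega) (by decide +kernel)
theorem f33 : F3 φ (h.psi5 (ofAdd (1, 1))) := h.f3_of (p := 25) (q := 42) (r := 259) (by omega) (by decide +kernel)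

theorem inj5 : Function.Injective h.psi5 := (injective_iff_map_eq_one _).2 fun v hv => by
  have h1 := h.pt5 (toAdd v) 0
  rw [ofAdd_toAdd, hv, map_one, inv_one, Equiv.Perm.one_apply] at h1
  have : ∀ v : V5, 0 = witer (tt T5) [2] v.2.val (witer (tt T5) [1] v.1.val 0) → v = 0 := by decide +kernel
  exact toAdd.injective (this _ h1)

theorem e51 : h.psi5 (ofAdd (1, 0)) = el φ W5 1 := by
  rw [psi5_apply]; exact (congrArg₂ (· * ·) (pow_one _) (pow_zero _)).trans (mul_one _)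

theorem e52 : h.psi5 (ofAdd (0, 1)) = el φ W5 2 := by
  rw [psi5_apply]; exact (congrArg₂ (· * ·) (pow_zero _) (pow_one _)).trans (one_mul _)

theorem rng5 : h.psi5.range = cl (el φ W5) [1, 2] := by
  refine le_antisymm ?_ (cl_le.2 ?_)
  · rintro _ ⟨v, rfl⟩
    exact mul_mem (pow_mem (mem_cl (by simp)) _) (pow_mem (mem_cl (by simp)) _)
  · simp only [List.forall_mem_cons]
    exact ⟨⟨_, h.e51⟩, ⟨_, h.e52⟩, by simp⟩

theorem card5 : Nat.card h.psi5.range = 25 := by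
  rw [← Nat.card_congr (MonoidHom.ofInjective h.inj5).toEquiv, Nat.card_eq_fintype_card]; rfl

theorem cen5 : Nat.card (centralizer (h.psi5.range : Set Γ)) ≤ 25 := by
  refine (h.cen_le ok5' tb5 (List.append_nil oC) tr5 fun x => ?_).trans (by decide +kernel)
  obtain rfl | rfl | rfl | hx : x = 0 ∨ x = 1 ∨ x = 2 ∨ 3 ≤ x := by omega
  · exact one_mem _
  · exact ⟨_, h.e51⟩
  · exact ⟨_, h.e52⟩
  · rw [el_big φ (W := W5.take 3) hx]; exact one_mem _

omit h in
theorem lin5 (τ : V5 →+ V5) (v : V5) : τ v = v.1 • τ (1, 0) + v.2 • τ (0, 1) := by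
  rw [← ZMod.map_smul, ← ZMod.map_smul, ← map_add]; congr 1; ext <;> simp

theorem norm5_le : Nat.card (normalizer (h.psi5.range : Set Γ)) ≤ 24 * 25 := by
  have := h.finite
  choose τ hτ using fun c : normalizer (h.psi5.range : Set Γ) => exists_tau h.inj5 c.2
  let X := {t : V5 × V5 // In5 t.1 ∧ In5 t.2 ∧ In5 (t.1 + t.2) ∧ ∀ v : V5, v.1 • t.1 + v.2 • t.2 = 0 → v = 0}
  have hX : Nat.card X = 24 := by rw [Nat.card_eq_fintype_card]; decide +kernel
  have k : ∀ c v, F3 φ (h.psi5 (ofAdd v)) → In5 (τ c v) := fun c v hv => h.in5 (hτ c v ▸ h.f3_conj _ hv)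
  refine (card_norm_le (X := X) _ (fun c => ⟨(τ c (1, 0), τ c (0, 1)), k c _ h.f31, k c _ h.f32,
    by rw [← map_add]; exact k c _ h.f33, fun v hv => ?_⟩) fun c c' e => cent_of_conj ?_).trans
    (by rw [hX]; exact Nat.mul_le_mul_left _ h.cen5)
  · have := hτ c v
    rw [lin5, hv, ofAdd_zero, map_one, eq_comm, conj_eq_one_iff, ← map_one h.psi5] at this
    exact ofAdd.injective (h.inj5 this)
  · rintro _ ⟨v, rfl⟩
    have e1 : τ c (1, 0) = τ c' (1, 0) := congrArg (fun t : X => t.1.1) e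
    have e2 : τ c (0, 1) = τ c' (0, 1) := congrArg (fun t : X => t.1.2) e
    rw [← ofAdd_toAdd v, ← hτ, ← hτ, lin5 (τ c), lin5 (τ c'), e1, e2]

theorem nrm5 : cl (el φ W5) [3, 4, 5] ≤ normalizer (h.psi5.range : Set Γ) := by
  rw [rng5]
  exact h.nrm ok5 (D := [[], [], [], [[], [1,1], [2,2]], [[], [2], [1]], [[], [1], [1,1,1,1,2,2,2,2]]])
    (by decide +kernel)

theorem quot5 : Nonempty (normalizer (h.psi5.range : Set Γ) ⧸ h.psi5.range.subgroupOf _ ≃*
    Multiplicative (ZMod 4) × Equiv.Perm (Fin 3)) ∧ Nat.card (normalizer (h.psi5.range : Set Γ)) = 600 := by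
  have := h.finite
  set z := el φ W5 with hz
  have c4 : Commute (z 3) (z 4) := show _ * _ = _ * _ by
    simpa [ev] using h.eq ok5 (u := [3,4]) (w := [4,3]) (by decide +kernel)
  have c5 : Commute (z 3) (z 5) := show _ * _ = _ * _ by
    simpa [ev] using h.eq ok5 (u := [3,5]) (w := [5,3]) (by decide +kernel)
  have h4 : z 3 ^ 4 = 1 := by
    simpa [ev, pow_succ, mul_assoc] using h.eq ok5 (u := [3,3,3,3]) (w := []) (by decide +kernel)
  have o4 : orderOf (z 3) = 4 := orderOf_eq_prime_pow (p := 2) (n := 1) (by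
    simpa [ev, pow_succ] using h.ne ok5 (u := [3,3]) (p := 0) (by decide +kernel)) h4
  obtain ⟨α, a4, a5⟩ := Known2.TC.exists_hom_perm3 (a := z 4) (b := z 5)
    (by simpa [ev] using h.eq ok5 (u := [4,4]) (w := []) (by decide +kernel))
    (by simpa [ev] using h.eq ok5 (u := [5,5]) (w := []) (by decide +kernel))
    (by simpa [ev, pow_succ, mul_assoc] using h.eq ok5 (u := [4,5,4,5,4,5]) (w := []) (by decide +kernel))
  have hα : Function.Injective α := Linear.injective_of_normalClosure α (v := Equiv.swap 0 1 * Equiv.swap 1 2) (by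
    rw [map_mul, a4, a5]; simpa [ev] using h.ne ok5 (u := [4,5]) (p := 0) (by decide +kernel)) (by decide +kernel)
  have gen : ∀ H : Subgroup Γ, z 4 ∈ H → z 5 ∈ H → ∀ a, α a ∈ H := fun H m4 m5 a => by
    obtain ⟨i, -, j, -, rfl⟩ : ∃ i < 3, ∃ j < 2, a = (Equiv.swap 0 1 * Equiv.swap 1 2) ^ i * Equiv.swap 0 1 ^ j := by
      revert a; decide +kernel
    rw [map_mul, map_pow, map_pow, map_mul, a4, a5]
    exact mul_mem (pow_mem (mul_mem m4 m5) _) (pow_mem m4 _)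
  have hc : ∀ x y, Commute (cyc 4 (z 3) h4 x) (α y) := fun x y => Commute.pow_left
    (mem_centralizer_singleton_iff.1 (gen (centralizer {z 3}) (mem_centralizer_singleton_iff.2 c4.symm)
      (mem_centralizer_singleton_iff.2 c5.symm) y)).symm _
  have hi := coprod_inj hc (cyc_inj h4 o4) hα (by decide +kernel)
  have hH : Nat.card (Multiplicative (ZMod 4) × Equiv.Perm (Fin 3)) = 24 := by
    rw [Nat.card_eq_fintype_card]; decide +kernel
  have := quot_iso le_normalizer ((cyc 4 (z 3) h4).noncommCoprod α hc) (A := h.psi5.range)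
    (fun x => mul_mem (pow_mem (h.nrm5 (mem_cl (by simp))) _)
      (gen _ (h.nrm5 (mem_cl (by simp))) (h.nrm5 (mem_cl (by simp))) _))
    (fun x hx => hi (by
      have h1 := congrArg Subtype.val (pow_card_eq_one' (x := (⟨_, hx⟩ : h.psi5.range)))
      have h2 := congrArg ((cyc 4 (z 3) h4).noncommCoprod α hc) (pow_card_eq_one' (x := x))
      rw [h.card5] at h1
      rw [hH, map_pow, map_one] at h2
      replace h1 : (cyc 4 (z 3) h4).noncommCoprod α hc x ^ (24 + 1) = 1 := h1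
      rwa [pow_succ, h2, one_mul, ← map_one ((cyc 4 (z 3) h4).noncommCoprod α hc)] at h1))
    (by rw [hH, h.card5]; exact h.norm5_le)
  rw [hH, h.card5] at this
  exact this

theorem conj5 (j : ℕ) (v : V5) : h.psi5 (ofAdd (M5^[j] v)) =
    (el φ W5 4 * el φ W5 5) ^ j * h.psi5 (ofAdd v) * ((el φ W5 4 * el φ W5 5) ^ j)⁻¹ := by
  obtain ⟨τ, hτ⟩ := exists_tau h.inj5 (mul_mem (h.nrm5 (mem_cl (x := 4) (by simp))) (h.nrm5 (mem_cl (x := 5) (by simp))))
  have t1 : τ (1, 0) = (0, 1) := ofAdd.injective (h.inj5 (by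
    rw [hτ, e51, e52, mul_inv_eq_iff_eq_mul]
    simpa [ev, mul_assoc] using h.eq ok5 (u := [4,5,1]) (w := [2,4,5]) (by decide +kernel)))
  have t2 : τ (0, 1) = (4, 4) := ofAdd.injective (h.inj5 (by
    rw [hτ, e52, mul_inv_eq_iff_eq_mul, psi5_apply, show ZMod.val (4 : ZMod 5) = 4 from rfl]
    simpa [ev, pow_succ, mul_assoc] using
      h.eq ok5 (u := [4,5,2]) (w := [1,1,1,1,2,2,2,2,4,5]) (by decide +kernel)))
  have t3 : ∀ v, τ v = M5 v := fun v => by
    rw [lin5, t1, t2]; ext <;> simp [M5, mul_comm]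
  induction j with
  | zero => simp
  | succ j ih => rw [Function.iterate_succ_apply', ← t3, hτ, ih, pow_succ']; simp only [mul_inv_rev, mul_assoc]

theorem cls5 : ∃ A B : Subgroup Γ, Nat.card A = 5 ∧ Nat.card B = 5 ∧
    (∀ g : Γ, A.map (MulAut.conj g).toMonoidHom ≠ B) ∧ ∀ C : Subgroup Γ, Nat.card C = 5 →
      ∃ g : Γ, C.map (MulAut.conj g).toMonoidHom = A ∨ C.map (MulAut.conj g).toMonoidHom = B := by
  have := h.finite
  have hc : ∀ v : V5, v ≠ 0 → Nat.card (zpowers (h.psi5 (ofAdd v))) = 5 := fun v hv => by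
    rw [Nat.card_zpowers, orderOf_injective _ h.inj5]
    refine orderOf_eq_prime ?_ fun e => hv (ofAdd.injective e)
    revert v; decide +kernel
  refine ⟨zpowers (h.psi5 (ofAdd (1, 0))), zpowers (h.psi5 (ofAdd (1, 2))), hc _ (by decide), hc _ (by decide),
    fun g e => ?_, fun C hC => ?_⟩
  · obtain ⟨k, hk⟩ := e.le ⟨_, mem_zpowers _, rfl⟩
    have h1 : h.psi5 (ofAdd (k • (1, 2))) = g * h.psi5 (ofAdd (1, 0)) * g⁻¹ := by
      rw [ofAdd_zsmul, map_zpow]; exact hk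
    have h2 := h.in5 (h1 ▸ h.f3_conj g h.f31)
    rw [← Int.cast_smul_eq_zsmul (ZMod 5)] at h1 h2
    have h3 : ∀ k : ZMod 5, In5 (k • (1, 2)) → k • ((1, 2) : V5) = 0 := by decide +kernel
    rw [h3 _ h2, ofAdd_zero, map_one, eq_comm, conj_eq_one_iff, ← map_one h.psi5] at h1
    exact absurd (ofAdd.injective (h.inj5 h1)) (by decide)
  · have hP : IsPGroup 5 h.psi5.range := IsPGroup.of_card (n := 2) h.card5
    have hi : ¬ 5 ∣ h.psi5.range.index := by
      have := h.psi5.range.card_mul_index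
      rw [h.card5, h.card] at this
      omega
    obtain ⟨Q, hQ⟩ := (IsPGroup.of_card (G := C) (p := 5) (n := 1) hC).exists_le_sylow
    obtain ⟨g, hg⟩ := MulAction.exists_smul_eq Γ Q (hP.toSylow hi)
    have : Nontrivial C := Finite.one_lt_card_iff_nontrivial.1 (by omega)
    obtain ⟨⟨y, hy⟩, y1⟩ := exists_ne (1 : C)
    have y2 : y ≠ 1 := fun e => y1 (Subtype.ext e)
    obtain ⟨v, hv⟩ : g * y * g⁻¹ ∈ h.psi5.range := by
      change _ ∈ (hP.toSylow hi : Subgroup Γ)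
      rw [← hg]; exact ⟨y, hQ hy, rfl⟩
    have hv0 : toAdd v ≠ 0 := fun e => y2 (by
      rw [← ofAdd_toAdd v, e, ofAdd_zero, map_one, eq_comm, conj_eq_one_iff] at hv; exact hv)
    have hy5 : zpowers y = C := eq_of_le_of_card_ge (zpowers_le.2 hy) (by
      rw [hC, ← hc _ hv0, ofAdd_toAdd, hv, Nat.card_zpowers, Nat.card_zpowers]
      exact (orderOf_injective (MulAut.conj g).toMonoidHom (MulAut.conj g).injective y).le)
    obtain ⟨j, -, k, -, hk⟩ : ∃ j < 3, ∃ k < 5, M5^[j] (toAdd v) = k • (1, 0) ∨ M5^[j] (toAdd v) = k • (1, 2) := by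
      revert hv0; generalize toAdd v = w; revert w; decide +kernel
    have key : ∀ w : V5, w ≠ 0 → M5^[j] (toAdd v) = k • w →
        C.map (MulAut.conj ((el φ W5 4 * el φ W5 5) ^ j * g)).toMonoidHom = zpowers (h.psi5 (ofAdd w)) := by
      intro w hw e
      refine eq_of_le_of_card_ge ?_ (by
        rw [hc w hw, card_map_of_injective (MulAut.conj _).injective, hC])
      rw [← hy5, MonoidHom.map_zpowers, zpowers_le]
      have h1 := h.conj5 j (toAdd v)
      rw [e, ofAdd_toAdd, hv, ofAdd_nsmul, map_pow] at h1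
      have h2 : (MulAut.conj ((el φ W5 4 * el φ W5 5) ^ j * g)).toMonoidHom y = h.psi5 (ofAdd w) ^ k := by
        rw [h1, MulEquiv.coe_toMonoidHom, MulAut.conj_apply]; simp only [mul_inv_rev, mul_assoc]
      rw [h2]; exact pow_mem (mem_zpowers _) _
    exact ⟨_, hk.imp (key _ (by decide)) (key _ (by decide))⟩

end Ctx

theorem five (e : Γ ≃* Spor.Suz) (P : Sylow 5 Γ) :
    (∃ A B : Subgroup Γ, Nat.card A = 5 ∧ Nat.card B = 5 ∧ (∀ g : Γ, A.map (MulAut.conj g).toMonoidHom ≠ B) ∧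
      ∀ C : Subgroup Γ, Nat.card C = 5 →
        ∃ g : Γ, C.map (MulAut.conj g).toMonoidHom = A ∨ C.map (MulAut.conj g).toMonoidHom = B) ∧
    Nat.card (P : Subgroup Γ) = 25 ∧ Nat.card ↥(normalizer ((P : Subgroup Γ) : Set Γ)) = 600 ∧
    Nonempty (↥(normalizer ((P : Subgroup Γ) : Set Γ)) ⧸
      (P : Subgroup Γ).subgroupOf (normalizer ((P : Subgroup Γ) : Set Γ)) ≃*
        Multiplicative (ZMod 4) × Equiv.Perm (Fin 3)) := by
  obtain ⟨φ0, h0⟩ := exists_ctx e
  have := h0.finite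
  obtain ⟨φ, h, hle⟩ := h0.exists_le P (S := cl (sv (gp on) W5) [1, 2]) (by
    rw [h0.comap_cl ok5, ← h0.rng5]; exact IsPGroup.of_card (n := 2) h0.card5)
  rw [h.comap_cl ok5, ← h.rng5] at hle
  have hB : Nat.card (P : Subgroup Γ) = 25 := by
    rw [P.card_eq_multiplicity, h.card, fact_eq (m := 17933819904) (k := 2) (by norm_num) (by norm_num) (by norm_num)]
    rfl
  refine ⟨h.cls5, hB, ?_⟩
  have e1 := eq_of_le_of_card_ge hle (by rw [hB, h.card5])
  generalize (P : Subgroup Γ) = Q at e1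
  subst e1
  exact h.quot5.symm

end Cfsg.Lib.SuzF
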