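import Cfsg.Agent.Lib.SuzF.B
import Cfsg.Agent.Lib.Linear.Triangle

/-! The centraliser and the normaliser of a Sylow 7-subgroup of the Suzuki sporadic group. -/

set_option autoImplicit false
set_option maxRecDepth 100000

namespace Cfsg.Lib.SuzF

open Cfsg.Lib.Comp Cfsg.Lib.Comp.Suz Subgroup

variable {Γ : Type*} [Group Γ]

theorem cyc_inj {n : ℕ} [NeZero n] {a : Γ} (h : a ^ n = 1) (ho : orderOf a = n) : Function.Injective (cyc n a h) :=
  (injective_iff_map_eq_one _).2 fun x hx => by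
    have h1 := orderOf_dvd_of_pow_eq_one (show a ^ (Multiplicative.toAdd x).val = 1 from hx)
    rw [ho] at h1
    have h2 := Nat.eq_zero_of_dvd_of_lt h1 (ZMod.val_lt _)
    rw [ZMod.val_eq_zero] at h2
    exact Multiplicative.toAdd.injective h2

theorem coprod_inj {H K : Type*} [Group H] [Group K] {f : H →* Γ} {g : K →* Γ} (hc : ∀ x y, Commute (f x) (g y))
    (hf : Function.Injective f) (hg : Function.Injective g) (hK : ∀ s : K, (∀ t, s * t = t * s) → s = 1) :
    Function.Injective (f.noncommCoprod g hc) :=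
  (injective_iff_map_eq_one _).2 fun x hx => by
    have h1 : f x.1 * g x.2 = 1 := hx
    have h2 : x.2 = 1 := hK _ fun t => hg (by
      rw [map_mul, map_mul, eq_inv_of_mul_eq_one_right h1]; exact (hc _ t).inv_left.eq)
    rw [h2, map_one, mul_one, ← map_one f] at h1
    exact Prod.ext (hf h1) h2

theorem card_ge [Finite Γ] {A N : Subgroup Γ} (hA : A ≤ N) {H : Type*} [Group H]
    (f : H →* Γ) (hf : ∀ x, f x ∈ N) (h1 : ∀ x, f x ∈ A → x = 1) : Nat.card H * Nat.card A ≤ Nat.card N := by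
  rw [← Nat.card_prod]
  refine Nat.card_le_card_of_injective (fun t : H × A => (⟨f t.1 * t.2, mul_mem (hf _) (hA t.2.2)⟩ : N)) ?_
  rintro ⟨x, a⟩ ⟨y, b⟩ e
  have e1 : f x * a = f y * b := congrArg Subtype.val e
  have e2 : y⁻¹ * x = 1 := h1 _ (by
    rw [map_mul, map_inv, show f x = f y * b * (a : Γ)⁻¹ by rw [← e1]; group, mul_assoc, inv_mul_cancel_left]
    exact mul_mem b.2 (inv_mem a.2))
  rw [inv_mul_eq_one] at e2
  subst e2
  rw [Subtype.ext (mul_left_cancel e1)]

theorem Ctx.ne2 {φ : Γ →* Equiv.Perm ℕ} (h : Ctx φ) {W : List (List ℕ)} (hW : okW W = true) {u w : List ℕ} {p : ℕ}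
    (he : Nat.beq (wap (tw tb W) u p) (wap (tw tb W) w p) = false) : ev (el φ W) u ≠ ev (el φ W) w := fun e => by
  rw [wapG (tbG_tw tb_ok W), wapG (tbG_tw tb_ok W), ← h.map_ev hW, ← h.map_ev hW, e, Nat.beq_refl] at he
  exact Bool.noConfusion he

theorem fact_eq {n p k m : ℕ} (hp : p.Prime) (h : n = p ^ k * m) (hm : ¬ p ∣ m) : n.factorization p = k := by
  rw [h, Nat.factorization_mul (pow_ne_zero _ hp.ne_zero) (fun e : m = 0 => hm (by rw [e]; exact dvd_zero p)), hp.factorization_pow]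
  simp [Nat.factorization_eq_zero_of_not_dvd hm]

theorem cl_single (z : ℕ → Γ) (x : ℕ) : cl z [x] = zpowers (z x) :=
  le_antisymm (cl_le.2 fun y hy => by rw [List.mem_singleton.1 hy]; exact mem_zpowers _)
    (zpowers_le.2 (mem_cl List.mem_cons_self))

noncomputable def W7 : List (List ℕ) := [[],
 [18,22,1,1,20,18,19,15,22,24],
 [12,12,3,1,21,23,13,15,23,21,18,15,20],
 [23],
 [19,18,9,13,15,13,16,16,24,22]]

def O7 : List ℕ := [0,1,2,3,71,189,247,390,391,392,714,715,716,765,766,767,798,799,800,987,988,989,1132,1133,1134,1668,1669,1670]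

def U7 : List (List ℕ) := [[], [1], [1,1,1], [1,1,1,1], [1,1], [1,1,1,1,1]]

theorem ok7 : okW W7 = true := by decide +kernel

theorem ok7' : okW (W7.take 2) = true := by decide +kernel

theorem tr7 : trB tb (tw tb (W7.take 2)) (fun u => u) U7 [4, 5] (oC.take 4) oP oL [0, 1, 2, 3] 0 O7 = true := by
  decide +kernel

namespace Ctx
variable {φ : Γ →* Equiv.Perm ℕ} (h : Ctx φ)
include h

theorem pow7 : el φ W7 1 ^ 7 = 1 := by
  simpa [ev, pow_succ, mul_assoc] using h.eq ok7 (u := [1,1,1,1,1,1,1]) (w := []) (by decide +kernel)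

theorem ord7 : orderOf (el φ W7 1) = 7 :=
  haveI : Fact (Nat.Prime 7) := ⟨by norm_num⟩
  orderOf_eq_prime h.pow7 (by simpa [ev] using h.ne ok7 (u := [1]) (p := 0) (by decide +kernel))

theorem cen7 : Nonempty (centralizer (zpowers (el φ W7 1) : Set Γ) ≃*
    Multiplicative (ZMod 7) × alternatingGroup (Fin 4)) := by
  have := h.finite
  set z := el φ W7 with hz
  have c2 : Commute (z 1) (z 2) := show _ * _ = _ * _ by
    simpa [ev] using h.eq ok7 (u := [1,2]) (w := [2,1]) (by decide +kernel)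
  have c3 : Commute (z 1) (z 3) := show _ * _ = _ * _ by
    simpa [ev] using h.eq ok7 (u := [1,3]) (w := [3,1]) (by decide +kernel)
  obtain ⟨α, a2, a3⟩ := Linear.exists_hom_A4 (x := z 2) (y := z 3)
    (by simpa [ev] using h.eq ok7 (u := [2,2]) (w := []) (by decide +kernel))
    (by simpa [ev, pow_succ, mul_assoc] using h.eq ok7 (u := [3,3,3]) (w := []) (by decide +kernel))
    (by simpa [ev, pow_succ, mul_assoc] using h.eq ok7 (u := [2,3,2,3,2,3]) (w := []) (by decide +kernel))
  have hα := Linear.injective_A4 α (by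
    rw [a2]; simpa [ev] using h.ne ok7 (u := [2]) (p := 0) (by decide +kernel))
  have c4 : ∀ a, Commute (z 1) (α a) := fun a => by
    obtain ⟨i, -, j, -, k, -, rfl⟩ : ∃ i < 3, ∃ j < 2, ∃ k < 3, a = Linear.a4y ^ i * Linear.a4x ^ j * Linear.a4y ^ k := by
      revert a; decide +kernel
    rw [map_mul, map_mul, map_pow, map_pow, map_pow, a2, a3]
    exact ((c3.pow_right _).mul_right (c2.pow_right _)).mul_right (c3.pow_right _)
  have hc : ∀ x y, Commute (cyc 7 (z 1) h.pow7 x) (α y) := fun x y => (c4 y).pow_left _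
  have hi := coprod_inj hc (cyc_inj h.pow7 h.ord7) hα (by decide +kernel)
  obtain ⟨e⟩ := iso_of_range hi (K := centralizer (zpowers (z 1) : Set Γ)) (by
    rintro _ ⟨x, rfl⟩ _ ⟨k, rfl⟩
    exact (Commute.zpow_left (((Commute.refl _).pow_right _).mul_right (c4 x.2)) k).eq) (by
    refine (h.cen_le ok7' (tbG_tw tb_ok _) (List.take_append_drop 4 oC) tr7 fun x => ?_).trans ?_
    · obtain rfl | rfl | hx : x = 0 ∨ x = 1 ∨ 2 ≤ x := by omega
      · exact one_mem _
      · exact mem_zpowers _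
      · rw [el_big φ (W := W7.take 2) hx]; exact one_mem _
    · rw [Nat.card_prod, Linear.card_A4, Nat.card_eq_fintype_card]; decide +kernel)
  exact ⟨e.symm⟩

theorem norm7 : Nat.card (normalizer (zpowers (el φ W7 1) : Set Γ)) = 504 := by
  classical
  have := h.finite
  obtain ⟨e⟩ := h.cen7
  have hC := Nat.card_congr e.toEquiv
  rw [Nat.card_prod, Linear.card_A4, Nat.card_eq_fintype_card (α := Multiplicative (ZMod 7)),
    show Fintype.card (Multiplicative (ZMod 7)) = 7 from rfl] at hC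
  set z := el φ W7 with hz
  have hn : z 4 ∈ normalizer (zpowers (z 1) : Set Γ) := by
    rw [← cl_single]
    refine mem_norm fun i hi => ?_
    rw [List.mem_singleton.1 hi, cl_single, show z 4 * z 1 * (z 4)⁻¹ = z 1 ^ 3 by
      rw [mul_inv_eq_iff_eq_mul]
      simpa [ev, pow_succ, mul_assoc] using h.eq ok7 (u := [4,1]) (w := [1,1,1,4]) (by decide +kernel)]
    exact pow_mem (mem_zpowers _) _
  have h6 : z 4 ^ 6 = 1 := by
    simpa [ev, pow_succ, mul_assoc] using h.eq ok7 (u := [4,4,4,4,4,4]) (w := []) (by decide +kernel)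
  refine le_antisymm ?_ ?_
  · have key : ∀ c : normalizer (zpowers (z 1) : Set Γ), ∃ k : Fin 6, c.1 * z 1 * c.1⁻¹ = z 1 ^ (k.1 + 1) := fun c => by
      have h1 := (mem_normalizer_iff.1 c.2 _).1 (mem_zpowers (z 1))
      obtain ⟨k, hk, e1⟩ := Finset.mem_image.1 (mem_zpowers_iff_mem_range_orderOf.1 h1)
      rw [Finset.mem_range, h.ord7] at hk
      obtain rfl | ⟨k, rfl⟩ : k = 0 ∨ ∃ j, k = j + 1 := by rcases k with _ | k <;> simp
      · rw [pow_zero, eq_comm, conj_eq_one_iff] at e1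
        have := h.ord7
        rw [← hz, e1, orderOf_one] at this
        omega
      · exact ⟨⟨k, by omega⟩, e1.symm⟩
    choose Φ hΦ using key
    refine (card_norm_le _ Φ fun c c' e1 => ?_).trans (by rw [hC]; simp)
    rintro _ ⟨k, rfl⟩
    have h1 := hΦ c
    rw [e1, ← hΦ c'] at h1
    refine (Commute.zpow_left (?_ : Commute (z 1) (c.1⁻¹ * c'.1)) k).eq
    calc z 1 * (c.1⁻¹ * c'.1) = c.1⁻¹ * (c.1 * z 1 * c.1⁻¹) * c'.1 := by group
      _ = _ := by rw [h1]; group
  · have := card_ge (centralizer_le_normalizer (zpowers (z 1) : Set Γ)) (cyc 6 (z 4) h6)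
      (fun x => pow_mem hn _) fun x hx => by
        have h1 : z 1 * z 4 ^ (Multiplicative.toAdd x).val = z 4 ^ (Multiplicative.toAdd x).val * z 1 :=
          hx _ (mem_zpowers _)
        have h2 := ZMod.val_lt (Multiplicative.toAdd x)
        by_contra h0
        have h3 : (Multiplicative.toAdd x).val ≠ 0 := fun e => h0 (by
          rw [ZMod.val_eq_zero] at e; exact Multiplicative.toAdd.injective e)
        generalize (Multiplicative.toAdd x).val = k at h1 h2 h3
        refine h.ne2 ok7 (u := 1 :: rpl k 4 []) (w := rpl k 4 [1]) (p := 0) ?_ (by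
          simpa [ev_cons, ev_rpl, ev_nil] using h1)
        interval_cases k
        · exact absurd rfl h3
        all_goals decide +kernel
    rw [hC, Nat.card_eq_fintype_card] at this
    exact this

end Ctx

theorem seven (e : Γ ≃* Spor.Suz) (B : Sylow 7 Γ) :
    Nonempty (↥(centralizer ((B : Subgroup Γ) : Set Γ)) ≃* Multiplicative (ZMod 7) × alternatingGroup (Fin 4)) ∧
      Nat.card ↥(normalizer ((B : Subgroup Γ) : Set Γ)) = 504 := by
  have : Fact (Nat.Prime 7) := ⟨by norm_num⟩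
  obtain ⟨φ0, h0⟩ := exists_ctx e
  have := h0.finite
  have hc : ∀ {φ : Γ →* Equiv.Perm ℕ}, Ctx φ → Nat.card (zpowers (el φ W7 1)) = 7 ^ 1 := fun h => by
    rw [Nat.card_zpowers, h.ord7]; rfl
  obtain ⟨φ, h, hle⟩ := h0.exists_le B (S := cl (sv (gp on) W7) [1]) (by
    rw [h0.comap_cl ok7, cl_single]; exact IsPGroup.of_card (hc h0))
  rw [h.comap_cl ok7, cl_single] at hle
  have hB : Nat.card (B : Subgroup Γ) = 7 ^ 1 := by
    rw [B.card_eq_multiplicity, h.card, fact_eq (m := 64049356800) (k := 1) (by norm_num) (by norm_num) (by norm_num)]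
  rw [← eq_of_le_of_card_ge hle (by rw [hB, hc h])]
  exact ⟨h.cen7, h.norm7⟩

end Cfsg.Lib.SuzF
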